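import Groth.Agent.Lib.PlaceRat28.Basic
import Mathlib.RingTheory.Ideal.MinimalPrime.Localization
import Mathlib.RingTheory.Algebraic.Integral
import Mathlib.RingTheory.Adjoin.PowerBasis

/-!
# Specialisations and escapes along rational places
-/

universe u

namespace Groth.Agent.PlaceRat28

variable {k : Type u} [Field k] [IsAlgClosed k]

/-- A point of the closure of the image of a morphism is the limit along a rational place. -/
theorem exists_place {A R : Type u} [CommRing A] [Algebra k A] [CommRing R] [Algebra k R] (φ : R →ₐ[k] A)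
    (y : R →ₐ[k] k) (hy : RingHom.ker φ ≤ RingHom.ker y) :
    ∃ (K : Type u) (_ : Field K) (_ : Algebra k K) (V : ValuationSubring K) (res : V →+* k) (ω : A →ₐ[k] K),
      (∀ c : k, ∃ h : algebraMap k K c ∈ V, res ⟨_, h⟩ = c) ∧ RingHom.ker res = IsLocalRing.maximalIdeal V ∧
      ∀ f : R, ∃ h : ω (φ f) ∈ V, res ⟨_, h⟩ = y f := by
  classical
  haveI : (RingHom.ker y).IsPrime := RingHom.ker_isPrime y
  obtain ⟨q, hq, hqy⟩ := Ideal.exists_minimalPrimes_le hy
  obtain ⟨P, hP, -, hPq⟩ := Ideal.exists_comap_eq_of_mem_minimalPrimes (φ : R →+* A) (I := ⊥) q hq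
  let K₀ := FractionRing (A ⧸ P)
  let ω : A →ₐ[k] K₀ := (IsScalarTower.toAlgHom k (A ⧸ P) K₀).comp (Ideal.Quotient.mkₐ k P)
  have hω : ∀ a, ω a = 0 ↔ a ∈ P := fun a =>
    (map_eq_zero_iff (algebraMap (A ⧸ P) K₀) (IsFractionRing.injective _ _)).trans Ideal.Quotient.eq_zero_iff_mem
  let Γ₀ : Subalgebra k (K₀ × k) := ((ω.comp φ).prod y).range
  have hΓ₀ : IsGraph Γ₀ := by
    rintro c ⟨f, hf⟩
    have h1 : ω (φ f) = 0 := congrArg Prod.fst hf
    have h2 : y f = c := congrArg Prod.snd hf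
    rw [← h2]
    refine RingHom.mem_ker.1 (hqy ?_)
    rw [← hPq]
    exact (hω _).1 h1
  obtain ⟨V, res, halg, hker, hext⟩ := exists_valuationSubring Γ₀ hΓ₀
  exact ⟨K₀, inferInstance, inferInstance, V, res, ω, halg, hker, fun f => hext _ _ ⟨f, rfl⟩⟩

/-- An algebra which is not integral over the field has a point leaving every compact. -/
theorem exists_escape {B : Type u} [CommRing B] [Algebra k B] {z : B} (hz : ¬ IsIntegral k z) :
    ∃ (K : Type u) (_ : Field K) (_ : Algebra k K) (V : ValuationSubring K) (res : V →+* k) (ω : B →ₐ[k] K),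
      (∀ c : k, ∃ h : algebraMap k K c ∈ V, res ⟨_, h⟩ = c) ∧ RingHom.ker res = IsLocalRing.maximalIdeal V ∧
      ω z ∉ V := by
  classical
  have hinj : Function.Injective (Polynomial.aeval z : Polynomial k →ₐ[k] B) :=
    (transcendental_iff_injective.1 fun h => hz h.isIntegral)
  have hbot : (⊥ : Ideal (Polynomial k)) ∈ minimalPrimes (Polynomial k) := by
    rw [IsDomain.minimalPrimes_eq_singleton_bot]
    exact Set.mem_singleton _
  obtain ⟨P, hP, hPbot⟩ := Ideal.exists_comap_eq_of_mem_minimalPrimes_of_injective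
    (f := (Polynomial.aeval z : Polynomial k →ₐ[k] B).toRingHom) hinj _ hbot
  let K₀ := FractionRing (B ⧸ P)
  let ω : B →ₐ[k] K₀ := (IsScalarTower.toAlgHom k (B ⧸ P) K₀).comp (Ideal.Quotient.mkₐ k P)
  have htr : Function.Injective (Polynomial.aeval (ω z) : Polynomial k →ₐ[k] K₀) := by
    rw [injective_iff_map_eq_zero]
    intro p hp
    rw [Polynomial.aeval_algHom_apply] at hp
    have : Polynomial.aeval z p ∈ P :=
      Ideal.Quotient.eq_zero_iff_mem.1 ((map_eq_zero_iff (algebraMap (B ⧸ P) K₀) (IsFractionRing.injective _ _)).1 hp)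
    have h2 : p ∈ (⊥ : Ideal (Polynomial k)) := by rw [← hPbot]; exact this
    simpa using h2
  have hz0 : ω z ≠ 0 := fun h => Polynomial.X_ne_zero (R := k) (htr (by simpa using h))
  have htri : Transcendental k (ω z)⁻¹ := fun h => by
    have := h.inv
    rw [inv_inv] at this
    exact (transcendental_iff_injective.2 htr) this
  let Γ₀ : Subalgebra k (K₀ × k) :=
    (((Polynomial.aeval (ω z)⁻¹ : Polynomial k →ₐ[k] K₀)).prod (Polynomial.aeval (0 : k))).range
  have hΓ₀ : IsGraph Γ₀ := by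
    rintro c ⟨p, hp⟩
    have h1 : Polynomial.aeval (ω z)⁻¹ p = 0 := congrArg Prod.fst hp
    have h2 : Polynomial.aeval (0 : k) p = c := congrArg Prod.snd hp
    have h0 : p = 0 := transcendental_iff.1 htri p h1
    rw [← h2, h0, map_zero]
  obtain ⟨V, res, halg, hker, hext⟩ := exists_valuationSubring Γ₀ hΓ₀
  refine ⟨K₀, inferInstance, inferInstance, V, res, ω, halg, hker, fun hmem => ?_⟩
  obtain ⟨hw, hres⟩ := hext (ω z)⁻¹ 0 ⟨Polynomial.X, by simp⟩
  have hu : IsUnit (⟨(ω z)⁻¹, hw⟩ : V) :=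
    IsUnit.of_mul_eq_one ⟨ω z, hmem⟩ (Subtype.ext (inv_mul_cancel₀ hz0))
  exact (hu.map res).ne_zero hres

end Groth.Agent.PlaceRat28
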