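import Mathlib.RingTheory.Valuation.LocalSubring
import Mathlib.FieldTheory.IsAlgClosed.Basic
import Mathlib.Algebra.Polynomial.FieldDivision
import Mathlib.Order.Zorn
import Mathlib.Tactic

/-!
# Extending rational places into an algebraically closed field
-/

universe u v

namespace Groth.Agent.PlaceRat28

variable {k : Type u} [Field k] {L : Type v} [Field L] [Algebra k L]

/-- A graph of a partial point: functional subalgebra of `L × k`. -/
def IsGraph (Γ : Subalgebra k (L × k)) : Prop := ∀ c : k, ((0 : L), c) ∈ Γ → c = 0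

lemma IsGraph.unique {Γ : Subalgebra k (L × k)} (h : IsGraph Γ) {x : L} {c d : k}
    (hc : (x, c) ∈ Γ) (hd : (x, d) ∈ Γ) : c = d :=
  sub_eq_zero.1 (h _ (by simpa using Γ.sub_mem hc hd))

open Polynomial in
/-- A point can be extended unless some relation forbids it. -/
theorem exists_mem_of_maximal [IsAlgClosed k] {Γ : Subalgebra k (L × k)} (hΓ : Maximal IsGraph Γ) (x : L)
    (H : ∀ p : Polynomial Γ, p.eval₂ ((AlgHom.fst k L k).comp Γ.val).toRingHom x = 0 →
      ∀ u : k, u ≠ 0 → p.map ((AlgHom.snd k L k).comp Γ.val).toRingHom ≠ C u) :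
    ∃ c, (x, c) ∈ Γ := by
  set f := ((AlgHom.fst k L k).comp Γ.val).toRingHom
  set g := ((AlgHom.snd k L k).comp Γ.val).toRingHom with hg
  have hgs : Function.Surjective g := fun c => ⟨algebraMap k Γ c, by simp [hg]⟩
  let J : Ideal (Polynomial k) := (RingHom.ker (Polynomial.eval₂RingHom f x)).map (Polynomial.mapRingHom g)
  have hmem : ∀ q, q ∈ J ↔ ∃ p : Polynomial Γ, p.eval₂ f x = 0 ∧ p.map g = q := fun q =>
    Ideal.mem_map_iff_of_surjective _ (Polynomial.map_surjective g hgs)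
  obtain ⟨c, hc⟩ : ∃ c : k, ∀ q ∈ J, q.eval c = 0 := by
    obtain ⟨q₀, hq₀⟩ := (IsPrincipalIdealRing.principal J).principal
    rcases eq_or_ne q₀ 0 with rfl | hq
    · refine ⟨0, fun q hq => ?_⟩
      rw [hq₀] at hq
      simp [show q = 0 by simpa using hq]
    · have hd : q₀.degree ≠ 0 := by
        intro hd
        obtain ⟨p, hp, hpq⟩ := (hmem q₀).1 (by rw [hq₀]; exact Submodule.mem_span_singleton_self _)
        rw [Polynomial.eq_C_of_degree_eq_zero hd] at hpq
        exact H p hp _ (fun h0 => hq (by rw [Polynomial.eq_C_of_degree_eq_zero hd, h0, map_zero])) hpq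
      obtain ⟨c, hc⟩ := IsAlgClosed.exists_root q₀ hd
      refine ⟨c, fun q hq' => ?_⟩
      rw [hq₀] at hq'
      obtain ⟨r, rfl⟩ := Submodule.mem_span_singleton.1 hq'
      rw [smul_eq_mul, Polynomial.eval_mul, hc.eq_zero, mul_zero]
  refine ⟨c, ?_⟩
  let Γ' : Subalgebra k (L × k) := (Algebra.adjoin Γ {((x, c) : L × k)}).restrictScalars k
  have hle : Γ ≤ Γ' := fun z hz =>
    (Algebra.adjoin Γ {((x, c) : L × k)}).algebraMap_mem ⟨z, hz⟩
  have hgraph : IsGraph Γ' := by
    intro d hd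
    change ((0 : L), d) ∈ Algebra.adjoin Γ {((x, c) : L × k)} at hd
    rw [Algebra.adjoin_singleton_eq_range_aeval] at hd
    obtain ⟨p, hp⟩ := hd
    have hf : (RingHom.fst L k).comp (algebraMap Γ (L × k)) = f := RingHom.ext fun _ => rfl
    have hg' : (RingHom.snd L k).comp (algebraMap Γ (L × k)) = g := RingHom.ext fun _ => rfl
    have hp' : p.eval₂ (algebraMap Γ (L × k)) (x, c) = ((0 : L), d) := (Polynomial.aeval_def _ _).symm.trans hp
    have h1 : p.eval₂ f x = 0 := by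
      have := congrArg (RingHom.fst L k) hp'
      rw [Polynomial.hom_eval₂, hf] at this
      exact this
    have h2 := congrArg (RingHom.snd L k) hp'
    rw [Polynomial.hom_eval₂, hg'] at h2
    exact (h2.symm.trans (Polynomial.eval_map g c).symm).trans (hc _ ((hmem _).2 ⟨p, h1, rfl⟩))
  rw [hΓ.eq_of_le hgraph hle]
  exact (Subalgebra.mem_restrictScalars k).2 (Algebra.self_mem_adjoin_singleton Γ ((x, c) : L × k))

/-- Graphs of partial points extend to maximal ones. -/
theorem exists_maximal (Γ₀ : Subalgebra k (L × k)) (h₀ : IsGraph Γ₀) :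
    ∃ Γ, Γ₀ ≤ Γ ∧ Maximal IsGraph Γ := by
  refine zorn_le_nonempty₀ {Γ : Subalgebra k (L × k) | IsGraph Γ} (fun c hc hch Γ hΓ => ?_) Γ₀ h₀
  haveI : Nonempty c := ⟨⟨Γ, hΓ⟩⟩
  refine ⟨⨆ i : c, i.1, fun d hd => ?_, fun z hz => le_iSup (fun i : c => i.1) ⟨z, hz⟩⟩
  have hdir : Directed (· ≤ ·) fun i : c => i.1 := hch.directedOn.directed_val
  obtain ⟨i, hi⟩ := Set.mem_iUnion.1 (by rw [← Subalgebra.coe_iSup_of_directed hdir]; exact hd)
  exact hc i.2 d hi

theorem exists_inv_mem [IsAlgClosed k] {Γ : Subalgebra k (L × k)} (hΓ : Maximal IsGraph Γ) {b : L} {c : k}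
    (hbc : (b, c) ∈ Γ) (hc : c ≠ 0) : b ≠ 0 ∧ (b⁻¹, c⁻¹) ∈ Γ := by
  have hb : b ≠ 0 := fun h => hc (hΓ.prop c (h ▸ hbc))
  obtain ⟨d, hd⟩ := exists_mem_of_maximal hΓ b⁻¹ fun p hp u hu hpu => by
    let N := p.natDegree
    let s : Γ := ∑ i ∈ Finset.range (N + 1), p.coeff i * (⟨(b, c), hbc⟩ : Γ) ^ (N - i)
    have h1 : (s : L × k).1 = 0 := by
      have e : (s : L × k).1 =
          ∑ i ∈ Finset.range (N + 1), ((p.coeff i : L × k)).1 * b ^ (N - i) := by
        simp only [s, AddSubmonoidClass.coe_finset_sum, Prod.fst_sum]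
        simp
      rw [e]
      rw [Polynomial.eval₂_eq_sum_range] at hp
      calc _ = b ^ N * ∑ i ∈ Finset.range (N + 1), ((p.coeff i : L × k)).1 * b⁻¹ ^ i := by
            rw [Finset.mul_sum]
            refine Finset.sum_congr rfl fun i hi => ?_
            rw [pow_sub₀ b hb (Nat.lt_succ_iff.1 (Finset.mem_range.1 hi)), inv_pow]
            ring
        _ = 0 := by rw [show (∑ i ∈ Finset.range (N + 1), ((p.coeff i : L × k)).1 * b⁻¹ ^ i) = 0 from hp, mul_zero]
    have h2 : (s : L × k).2 = u * c ^ N := by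
      have e : (s : L × k).2 = ∑ i ∈ Finset.range (N + 1), ((p.coeff i : L × k)).2 * c ^ (N - i) := by
        simp only [s, AddSubmonoidClass.coe_finset_sum, Prod.snd_sum]
        simp
      have hco : ∀ i, ((p.coeff i : L × k)).2 = if i = 0 then u else 0 := fun i => by
        have := congrArg (fun q => Polynomial.coeff q i) hpu
        simpa [Polynomial.coeff_C] using this
      rw [e, Finset.sum_eq_single 0 (fun i _ hi => by rw [hco, if_neg hi, zero_mul]) (by simp), hco, if_pos rfl,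
        Nat.sub_zero]
    exact mul_ne_zero hu (pow_ne_zero _ hc)
      (h2.symm.trans (hΓ.prop _ (by rw [← h1]; exact s.2)))
  have hmul : ((1 : L), c * d) ∈ Γ := by simpa [hb] using Γ.mul_mem hbc hd
  have : c * d = 1 := hΓ.prop.unique hmul Γ.one_mem
  rw [show d = c⁻¹ from eq_inv_of_mul_eq_one_right this] at hd
  exact ⟨hb, hd⟩

/-- A rational point of a subalgebra extends to a valuation subring with rational residue map. -/
theorem exists_valuationSubring [IsAlgClosed k] (Γ₀ : Subalgebra k (L × k)) (h₀ : IsGraph Γ₀) :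
    ∃ (V : ValuationSubring L) (res : V →+* k),
      (∀ c : k, ∃ h : algebraMap k L c ∈ V, res ⟨_, h⟩ = c) ∧
      RingHom.ker res = IsLocalRing.maximalIdeal V ∧
      ∀ x c, (x, c) ∈ Γ₀ → ∃ h : x ∈ V, res ⟨x, h⟩ = c := by
  obtain ⟨Γ, hle, hΓ⟩ := exists_maximal Γ₀ h₀
  let B : Subring L := ((AlgHom.fst k L k).comp Γ.val).toRingHom.range
  have hBmem : ∀ x : L, x ∈ B ↔ ∃ c, (x, c) ∈ Γ := fun x =>
    ⟨fun ⟨z, hz⟩ => ⟨z.1.2, by rw [← hz]; exact z.2⟩, fun ⟨c, hc⟩ => ⟨⟨_, hc⟩, rfl⟩⟩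
  choose χ hχ using fun b : B => (hBmem b).1 b.2
  have huniq : ∀ (b : B) (c : k), ((b : L), c) ∈ Γ → χ b = c := fun b c h => hΓ.prop.unique (hχ b) h
  let res : B →+* k :=
    { toFun := χ
      map_one' := huniq 1 1 Γ.one_mem
      map_mul' := fun a b => huniq _ _ (Γ.mul_mem (hχ a) (hχ b))
      map_zero' := huniq 0 0 Γ.zero_mem
      map_add' := fun a b => huniq _ _ (Γ.add_mem (hχ a) (hχ b)) }
  have hunit : ∀ b : B, IsUnit b ↔ χ b ≠ 0 := by
    refine fun b => ⟨fun h => (h.map res).ne_zero, fun h => ?_⟩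
    obtain ⟨hb, hinv⟩ := exists_inv_mem hΓ (hχ b) h
    exact IsUnit.of_mul_eq_one ⟨(b : L)⁻¹, (hBmem _).2 ⟨_, hinv⟩⟩ (Subtype.ext (mul_inv_cancel₀ hb))
  haveI : IsLocalRing B := IsLocalRing.of_nonunits_add fun a b ha hb => by
    rw [mem_nonunits_iff, hunit, not_not] at ha hb ⊢
    exact (map_add res a b).trans (by rw [show res a = 0 from ha, show res b = 0 from hb, add_zero])
  obtain ⟨V, hV, hloc⟩ := (LocalSubring.mk B).exists_le_valuationSubring
  have hVB : ∀ x : L, x ∈ V → x ∈ B := by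
    intro x hx
    refine (hBmem x).2 (exists_mem_of_maximal hΓ x fun p hp u hu hpu => ?_)
    have hco : ∀ i, ((p.coeff i : L × k)).2 = if i = 0 then u else 0 := fun i => by
      have := congrArg (fun q => Polynomial.coeff q i) hpu
      simpa [Polynomial.coeff_C] using this
    let t : ℕ → V := fun i => ⟨((p.coeff i : L × k)).1, hV ((hBmem _).2 ⟨_, (p.coeff i).2⟩)⟩
    have ht : ∀ i, IsUnit (t i) ↔ ((p.coeff i : L × k)).2 ≠ 0 := fun i => by
      let b : B := ⟨((p.coeff i : L × k)).1, (hBmem _).2 ⟨_, (p.coeff i).2⟩⟩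
      rw [← huniq b _ (p.coeff i).2, ← hunit b]
      exact ⟨fun h => hloc.map_nonunit b h, fun h => h.map (Subring.inclusion hV)⟩
    have hsum : ∑ i ∈ Finset.range (p.natDegree + 1), t i * (⟨x, hx⟩ : V) ^ i = 0 := by
      apply Subtype.ext
      rw [Polynomial.eval₂_eq_sum_range] at hp
      simpa [AddSubmonoidClass.coe_finset_sum, t] using hp
    rw [Finset.sum_range_succ'] at hsum
    have h0 : IsUnit (t 0) := (ht 0).2 (by rw [hco, if_pos rfl]; exact hu)
    rw [pow_zero, mul_one, add_eq_zero_iff_eq_neg'] at hsum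
    have hm : t 0 ∈ IsLocalRing.maximalIdeal V := by
      rw [hsum]
      refine neg_mem (Ideal.sum_mem _ fun i _ => Ideal.mul_mem_right _ _ ?_)
      rw [IsLocalRing.mem_maximalIdeal, mem_nonunits_iff, ht, hco, if_neg (Nat.succ_ne_zero i)]
      simp
    exact hm h0
  let resV : V →+* k := res.comp (Subring.inclusion (show V.toSubring ≤ B from fun x hx => hVB x hx))
  refine ⟨V, resV, fun c => ⟨hV ((hBmem _).2 ⟨c, Γ.algebraMap_mem c⟩), huniq _ _ (Γ.algebraMap_mem c)⟩, ?_,
    fun x c h => ⟨hV ((hBmem _).2 ⟨c, hle h⟩), huniq _ _ (hle h)⟩⟩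
  ext a
  rw [RingHom.mem_ker, IsLocalRing.mem_maximalIdeal, mem_nonunits_iff]
  refine ⟨fun h hu => (hu.map resV).ne_zero h, fun h => ?_⟩
  by_contra hne
  exact h (((hunit ⟨(a : L), hVB _ a.2⟩).2 hne).map (Subring.inclusion hV))

end Groth.Agent.PlaceRat28
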